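import Cfsg.Agent.Lib.CosetEnum.Defs

/-! Generated table data. -/

set_option autoImplicit false
set_option maxRecDepth 20000

namespace Cfsg.Lib.CosetEnum.HeSub_defg

/-- Table data. -/
def tabC_0_0 : Tab :=
  (.node 16 (.node 8 (.node 4 (.node 2 (.node 1 (.leaf 0x4000000000000000b) (.leaf 0x4000000000000000c)) (.node 1 (.leaf 0x4000000000000000d) (.leaf 0x1000008000040000040000200000400007))) (.node 2 (.node 1 (.leaf 0x100003c000120000380000200002c00007) (.leaf 0x100000c000050000040000200000400008)) (.node 1 (.leaf 0x1000044000130000400000200003000008) (.leaf 0x40000600000800005000004000020000040000a)))) (.node 4 (.node 2 (.node 1 (.leaf 0x100001c0001b0000640000200001000007) (.leaf 0x10000700000600005c0000100000c00008)) (.node 1 (.leaf 0x100000400000000050000010000000000200000000004) (.leaf 0x10000400000b0000700000e0000280000200001c00004))) (.node 2 (.node 1 (.leaf 0x100000800000000054000020000000000200000000005) (.leaf 0x100002000017000020000170000800000300000c00004)) (.node 1 (.leaf 0x10000300000c0000840000200002400008) (.leaf 0x100002000004000020000040000780000300000800005))))) (.node 8 (.node 4 (.node 2 (.node 1 (.leaf 0x40000c00008c0000c000084000020000240000a)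 (.leaf 0x100003c0000a00006c0000d0000240000200001800005)) (.node 1 (.leaf 0x100000c00000000058000030000000000200000000006) (.leaf 0x100002400019000024000190000980000300001000004))) (.node 2 (.node 1 (.leaf 0x10000340000d00009c0000200002800007) (.leaf 0x1000060000250000a0000180000940000200003800004)) (.node 1 (.leaf 0x100002c0000700002c000070000980000300001000005) (.leaf 0x10000400002a0000400000100003000007)))) (.node 4 (.node 2 (.node 1 (.leaf 0x4000110000a800013000040000020000300000a) (.leaf 0x100002400005000024000050000780000300000800006)) (.node 1 (.leaf 0x40000d0000340002d00009c000030000280000a) (.leaf 0x100002800006000028000060000800000300000c00006))) (.node 2 (.node 1 (.leaf 0x10000380002f0000380000100002c00008) (.leaf 0x40000f000048000300000380000300002c0000a)) (.node 1 (.leaf 0x10000440000b0000740000c0000200000200001400006) (.leaf 0x1000068000320000880001a0000c80000200003400004))))))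

/-- Table data. -/
def tabC_0 : Tab :=
  tabC_0_0

end Cfsg.Lib.CosetEnum.HeSub_defg
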