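import Cfsg.Agent.Lib.CosetEnum.Defs

/-! Generated table data. -/

set_option autoImplicit false
set_option maxRecDepth 20000

namespace Cfsg.Lib.CosetEnum.HeSub_defg

/-- Table data. -/
def tabZ_0_0 : Tab :=
  (.node 1 (.leaf 0x1d00000000000000000700000000000000001c00000000000000000b00000000000000000000000000000000000000000000000000000000000000000000000600000000000000001b00000000000000001c00000000000000000a00000000000000000000000000000000000000000000000000000000000000000000000500000000000000001b00000000000000001900000000000000000900000000000000000000000000000000000000000000000000000000000000000000001d00000000000000000400000000000000001700000000000000000800000000000000000000000000000000000000000000000000000000000000000000000300000000000000000700000000000000001900000000000000002600000000000000000000000000000000000000000000000000000000000000000000000600000000000000000200000000000000001700000000000000002000000000000000000000000000000000000000000000000000000000000000000000000500000000000000000400000000000000000100000000000000001e000000000000000000000000000000000000000000000000000000000000000000000003000000000000000002000000000000000001000000000000000000000000000000000000000000000000000000000000000000000000000000000000000016000000000000000015000000000000000014000000000000000000000000000000000000000000000000000000000000000000000000) (.node 1 (.leaf 0x1300000000000000002b00000000000000001000000000000000001f00000000000000000000000000000000000000000000000000000000000000000000003100000000000000000f000000000000000018000000000000000025000000000000000000000000000000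00000000000000000000000000000000000000003000000000000000001200000000000000000e00000000000000001f00000000000000000000000000000000000000000000000000000000000000000000002e00000000000000000d00000000000000002800000000000000002500000000000000000000000000000000000000000000000000000000000000000000000c00000000000000002400000000000000002200000000000000003200000000000000000000000000000000000000000000000000000000000000000000001100000000000000002a00000000000000001000000000000000000b00000000000000000000000000000000000000000000000000000000000000000000002f00000000000000000f00000000000000000e00000000000000000a00000000000000000000000000000000000000000000000000000000000000000000002d00000000000000000d00000000000000002700000000000000000900000000000000000000000000000000000000000000000000000000000000000000000c000000000000000023000000000000000021000000000000000008000000000000000000000000000000000000) (.leaf 0x1300000000000000002c00000000000000001a00000000000000003300000000000000000000000000000000000000000000000000000000000000000000003100000000000000001200000000000000001800000000000000002900000000000000000000000000000000000000000000000000000000000000000000001100000000000000002c00000000000000001a000000000000000032000000000000000000)))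

/-- Table data. -/
def tabZ_0 : Tab :=
  tabZ_0_0

end Cfsg.Lib.CosetEnum.HeSub_defg
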