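import Cfsg.Agent.Lib.CosetEnum.Defs

/-! Generated table data. -/

set_option autoImplicit false
set_option maxRecDepth 20000

namespace Cfsg.Lib.CosetEnum.HeSub_defg

/-- Table data. -/
def tabF_0_0 : Tab :=
  (.leaf 0xa00002830000000000680002430000000000980002060000000000780001e60000000000580001660000000000700001c60000000000500001460000000000a00002450000000000880002250000000000600001850000000000980002630000000000700001c40000000000500001440000000000200000830000000000700002030000000000680001a50000000000480001250000000000680001a40000000000480001240000000000180000630000000000780002230000000000100000430000000000280001060000000000380001040000000000300000e50000000000a00002440000000000300000840000000000980002040000000000280000640000000000000000060000000000000000050000000000000000040000000000880002860000000000780002650000000000600002460000000000600002240000000000580002050000000000580001e40000000000500001c50000000000480001a60000000000400001830000000000380001630000000000300001430000000000280001230000000000200001050000000000180000e60000000000100000c60000000000100000a5000000000008000086000000000008000065000000000008000044000000000000000023)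

/-- Table data. -/
def tabF_0 : Tab :=
  tabF_0_0

end Cfsg.Lib.CosetEnum.HeSub_defg
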